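import Groth.Prelude.Def_EtZar
import Groth.Agent.L28.Supp.DerComp
import Groth.Agent.L10.TopCoh
import Mathlib.Algebra.Category.Grp.Ulift
import Mathlib.Algebra.Homology.DerivedCategory.Ext.Map
import Mathlib.CategoryTheory.Limits.Preserves.FunctorCategory
import Mathlib.CategoryTheory.Sites.Equivalence
import Mathlib.Algebra.Category.Grp.Adjunctions
import Mathlib.Algebra.Category.Grp.FilteredColimits

/-!
Change of universe for the cohomology of sheaves on a space.
-/

set_option autoImplicit false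
set_option linter.style.haveILetI false
set_option linter.unusedSectionVars false
set_option backward.isDefEq.respectTransparency.types false

universe w w' v v' u u'

open CategoryTheory CategoryTheory.Limits CategoryTheory.Abelian AlgebraicGeometry Opposite TopologicalSpace

namespace Groth.L28.UnivLift

section General

variable {C : Type u} [Category.{v} C] [Abelian C] [HasExt.{w} C] [EnoughInjectives C]
  {D : Type u'} [Category.{v'} D] [Abelian D] [HasExt.{w'} D] (L : C ⥤ D) [L.Additive]
  [PreservesFiniteLimits L] [PreservesFiniteColimits L] [L.Full] [L.Faithful] (A : C)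

/-- a fully faithful exact functor sending injectives to acyclics is bijective on extensions -/
theorem bijective_mapExactFunctor
    (hI : ∀ (I : C), Injective I → ∀ n : ℕ, Subsingleton (Ext.{w'} (L.obj A) (L.obj I) (n + 1))) (n : ℕ) :
    ∀ F : C, Function.Bijective (fun x : Ext.{w} A F n => (x.mapExactFunctor L : Ext.{w'} (L.obj A) (L.obj F) n)) := by
  induction n with
  | zero =>
    intro F
    refine ⟨fun x y h => ?_, fun y => ?_⟩
    · obtain ⟨a, rfl⟩ := (Ext.mk₀_bijective _ _).2 x
      obtain ⟨b, rfl⟩ := (Ext.mk₀_bijective _ _).2 y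
      simp only [Ext.mapExactFunctor_mk₀] at h
      rw [L.map_injective ((Ext.mk₀_bijective _ _).1 h)]
    · obtain ⟨b, rfl⟩ := (Ext.mk₀_bijective _ _).2 y
      exact ⟨Ext.mk₀ (L.preimage b), by simp only [Ext.mapExactFunctor_mk₀, L.map_preimage]⟩
  | succ n ih =>
    intro F
    obtain ⟨S, hS, hinj, rfl⟩ := Groth.L28.Supp.exists_presentation F
    have hLS := hS.map_of_exact L
    refine ⟨fun x y h => ?_, fun y => ?_⟩
    · rw [← sub_eq_zero]
      let f := AddMonoidHom.mk' (fun x : Ext.{w} A S.X₁ (n + 1) => (x.mapExactFunctor L : Ext.{w'} (L.obj A) (L.obj S.X₁) (n + 1)))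
        (fun a b => Ext.mapExactFunctor_add L _ _ _ a b)
      have h' : f (x - y) = 0 := by rw [map_sub, sub_eq_zero]; exact h
      obtain ⟨t, ht⟩ := Ext.covariant_sequence_exact₁ _ hS (x - y) (Ext.eq_zero_of_injective _) rfl
      rw [← ht] at h' ⊢
      change (t.comp hS.extClass rfl).mapExactFunctor L = 0 at h'
      rw [Ext.mapExactFunctor_comp, Ext.mapExactFunctor_extClass] at h'
      obtain ⟨s, hs⟩ := Ext.covariant_sequence_exact₃ _ hLS (t.mapExactFunctor L) rfl h'
      obtain ⟨s₀, rfl⟩ := (ih S.X₂).2 s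
      have : t = s₀.comp (Ext.mk₀ S.g) (add_zero n) := (ih S.X₃).1 (by
        show t.mapExactFunctor L = (s₀.comp (Ext.mk₀ S.g) (add_zero n)).mapExactFunctor L
        rw [Ext.mapExactFunctor_comp, Ext.mapExactFunctor_mk₀]
        exact hs.symm)
      rw [this, Ext.comp_assoc_of_second_deg_zero, hS.comp_extClass]
      exact Ext.comp_zero _ _ _ _ _
    · obtain ⟨z, rfl⟩ := Ext.covariant_sequence_exact₁ _ hLS y
        (haveI := hI S.X₂ hinj n; Subsingleton.elim (α := Ext.{w'} (L.obj A) (L.obj S.X₂) (n + 1)) _ _) rfl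
      obtain ⟨t, rfl⟩ := (ih S.X₃).2 z
      exact ⟨t.comp hS.extClass rfl, by
        show (t.comp hS.extClass rfl).mapExactFunctor L = _
        rw [Ext.mapExactFunctor_comp, Ext.mapExactFunctor_extClass]
        rfl⟩

end General

variable (X : Scheme.{u})

/-- sheaves of small abelian groups -/
abbrev SmallAb : Type (u + 1) := Sheaf (Opens.grothendieckTopology X) AddCommGrpCat.{u}

/-- the universe lift of sheaves -/
noncomputable abbrev lift : SmallAb X ⥤ EtZar.Ab X :=
  sheafCompose (Opens.grothendieckTopology X) AddCommGrpCat.uliftFunctor.{u + 1}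

variable {X}

theorem wEqualsLocallyBijective :
    (Opens.grothendieckTopology X).WEqualsLocallyBijective AddCommGrpCat.{u + 1} := by
  have h := GrothendieckTopology.WEqualsLocallyBijective.ofEssentiallySmall (A := AddCommGrpCat.{u + 1})
    (Opens.grothendieckTopology X)
  exact h

theorem isSheaf_types (A : EtZar.Ab X) :
    Presieve.IsSheaf (Opens.grothendieckTopology X) (A.obj ⋙ CategoryTheory.forget AddCommGrpCat.{u + 1}) :=
  (isSheaf_iff_isSheaf_of_type _ _).1
    (GrothendieckTopology.HasSheafCompose.isSheaf (F := CategoryTheory.forget AddCommGrpCat.{u + 1}) A.obj A.property)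

/-- morphisms of sheaves which are locally surjective are epimorphisms -/
theorem epi_of_locally_surjective {A B : EtZar.Ab X} (g : A ⟶ B)
    (h : ∀ (U : X.Opens) (s : B.obj.obj (op U)), ∀ x ∈ U, ∃ (V : X.Opens) (hVU : V ≤ U),
      x ∈ V ∧ ∃ t, g.hom.app (op V) t = B.obj.map (homOfLE hVU).op s) : Epi g := by
  refine ⟨fun {K} φ ψ e => ObjectProperty.hom_ext _ (NatTrans.ext (funext fun U => ConcreteCategory.hom_ext _ _ fun s => ?_))⟩
  let R : Sieve U.unop :=
    { arrows := fun W i => ∃ t, g.hom.app (op W) t = B.obj.map i.op s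
      downward_closed := fun {W W' i} hi j => by
        obtain ⟨t, ht⟩ := hi
        refine ⟨A.obj.map j.op t, ?_⟩
        rw [NatTrans.naturality_apply g.hom j.op t, ht, op_comp, Functor.map_comp_apply] }
  have hR : R ∈ Opens.grothendieckTopology X U.unop := fun x hx => by
    obtain ⟨V, hVU, hxV, t, ht⟩ := h U.unop s x hx
    exact ⟨V, homOfLE hVU, ⟨t, ht⟩, hxV⟩
  refine ((isSheaf_types K).isSeparated R hR).ext fun W i hi => ?_
  obtain ⟨t, ht⟩ := hi
  show K.obj.map i.op (φ.hom.app U s) = K.obj.map i.op (ψ.hom.app U s)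
  refine (NatTrans.naturality_apply φ.hom i.op s).symm.trans (Eq.trans ?_ (NatTrans.naturality_apply ψ.hom i.op s))
  refine (congrArg (φ.hom.app (op W)) ht).symm.trans (Eq.trans ?_ (congrArg (ψ.hom.app (op W)) ht))
  exact ConcreteCategory.congr_hom (congrArg (fun k => k.hom.app (op W)) e) t

theorem exists_local_preimage {S : ShortComplex (EtZar.Ab X)} (hS : S.ShortExact) (U : X.Opens)
    (s : S.X₃.obj.obj (op U)) (x : X) (hx : x ∈ U) : ∃ (V : X.Opens) (hVU : V ≤ U),
      x ∈ V ∧ ∃ t, S.g.hom.app (op V) t = S.X₃.obj.map (homOfLE hVU).op s := by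
  haveI := hS.epi_g
  haveI := wEqualsLocallyBijective (X := X)
  haveI : Sheaf.IsLocallySurjective S.g :=
    (Sheaf.isLocallySurjective_iff_epi' (J := Opens.grothendieckTopology X) AddCommGrpCat.{u + 1} S.g).mpr inferInstance
  obtain ⟨V, f, hf, hxV⟩ := Presheaf.imageSieve_mem (Opens.grothendieckTopology X) S.g.hom s x hx
  exact ⟨V, f.le, hxV, hf⟩

theorem app_exact {S : ShortComplex (EtZar.Ab X)} (hS : S.ShortExact) (U : X.Opens) (t : S.X₂.obj.obj (op U))
    (ht : S.g.hom.app (op U) t = 0) : ∃ a, S.f.hom.app (op U) a = t := by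
  haveI := hS.mono_f
  let Φ := sheafToPresheaf (Opens.grothendieckTopology X) AddCommGrpCat.{u + 1} ⋙ (evaluation _ _).obj (op U)
  haveI : Φ.PreservesZeroMorphisms := ⟨fun _ _ => rfl⟩
  exact (ShortComplex.ab_exact_iff _).1 (hS.exact.map_of_mono_of_preservesKernel Φ inferInstance inferInstance) t ht

/-- flasque sheaves -/
def Flasque (F : EtZar.Ab X) : Prop :=
  ∀ (U V : X.Opens) (h : V ≤ U), Function.Surjective (F.obj.map (homOfLE h).op)

theorem res_eq {F : EtZar.Ab X} {A B : X.Opens} (i j : B ⟶ A) (x : F.obj.obj (op A)) :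
    F.obj.map i.op x = F.obj.map j.op x := by rw [Subsingleton.elim i j]

theorem res_res (F : EtZar.Ab X) {A B D : X.Opens} (h : B ≤ A) (h' : D ≤ B) (x : F.obj.obj (op A)) :
    F.obj.map (homOfLE h').op (F.obj.map (homOfLE h).op x) = F.obj.map (homOfLE (h'.trans h)).op x := by
  rw [← Functor.map_comp_apply, ← op_comp]
  rfl

/-- sections of a quotient by a flasque sheaf lift -/
theorem surjective_app {S : ShortComplex (EtZar.Ab X)} (hS : S.ShortExact) (h₁ : Flasque S.X₁) (U : X.Opens) :
    Function.Surjective (S.g.hom.app (op U)) := by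
  intro s
  let P : Type (u + 1) := { p : Σ V : X.Opens, S.X₂.obj.obj (op V) //
    ∃ h : p.1 ≤ U, S.g.hom.app (op p.1) p.2 = S.X₃.obj.map (homOfLE h).op s }
  let r : P → P → Prop := fun a b => ∃ h : a.1.1 ≤ b.1.1, S.X₂.obj.map (homOfLE h).op b.1.2 = a.1.2
  have hr : ∀ {a b c : P}, r a b → r b c → r a c := by
    rintro a b c ⟨h, e⟩ ⟨h', e'⟩
    exact ⟨h.trans h', by rw [← res_res _ h' h, e', e]⟩
  obtain ⟨m, hm⟩ := exists_maximal_of_chains_bounded (r := r) (fun c hc => by
    let f : c → X.Opens := fun a => a.1.1.1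
    obtain ⟨t, ht, -⟩ := TopCat.Sheaf.existsUnique_gluing (X := X.carrier) (S.X₂ : TopCat.Sheaf AddCommGrpCat.{u + 1} X.carrier) f
      (fun a => a.1.1.2) (fun a b => by
        rcases eq_or_ne a.1 b.1 with h | h
        · obtain rfl : a = b := Subtype.ext h
          rfl
        · rcases hc a.2 b.2 h with ⟨h', e⟩ | ⟨h', e⟩
          · show S.X₂.obj.map _ a.1.1.2 = S.X₂.obj.map _ b.1.1.2
            rw [← e]
            exact (res_res _ h' (inf_le_left) _).trans (res_eq _ _ _)
          · show S.X₂.obj.map _ a.1.1.2 = S.X₂.obj.map _ b.1.1.2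
            rw [← e]
            exact Eq.trans (res_eq _ _ _) (res_res _ h' (inf_le_right) _).symm)
    have hle : iSup f ≤ U := iSup_le fun a => a.1.2.choose
    refine ⟨⟨⟨iSup f, t⟩, hle, ?_⟩, fun a ha => ⟨le_iSup f ⟨a, ha⟩, ht ⟨a, ha⟩⟩⟩
    refine TopCat.Sheaf.eq_of_locally_eq (X := X.carrier) (S.X₃ : TopCat.Sheaf AddCommGrpCat.{u + 1} X.carrier) f _ _ fun a => ?_
    show S.X₃.obj.map _ (S.g.hom.app _ t) = S.X₃.obj.map _ (S.X₃.obj.map _ s)
    rw [← NatTrans.naturality_apply S.g.hom]
    refine ((congrArg (S.g.hom.app (op (f a))) (ht a)).trans a.1.2.choose_spec).trans ?_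
    rw [← Functor.map_comp_apply, ← op_comp]
    rfl) (fun {a b c} => hr)
  obtain ⟨⟨V, t⟩, hV, ht⟩ := m
  suffices hU : U ≤ V by
    obtain rfl : V = U := le_antisymm hV hU
    exact ⟨t, ht.trans (by rw [show homOfLE hV = 𝟙 V from rfl, op_id, Functor.map_id_apply])⟩
  intro x hx
  obtain ⟨W, hWU, hxW, t₁, ht₁⟩ := exists_local_preimage hS U s x hx
  let t₂ := S.X₂.obj.map (homOfLE (inf_le_left : V ⊓ W ≤ V)).op t -
    S.X₂.obj.map (homOfLE (inf_le_right : V ⊓ W ≤ W)).op t₁
  obtain ⟨a, ha⟩ := app_exact hS (V ⊓ W) t₂ (by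
    rw [map_sub, NatTrans.naturality_apply S.g.hom, NatTrans.naturality_apply S.g.hom, ht, ht₁, res_res, res_res, sub_self])
  obtain ⟨b, hb⟩ := h₁ W (V ⊓ W) inf_le_right a
  let f : ULift.{u} Bool → X.Opens := fun i => cond i.down W V
  let sf : ∀ i, S.X₂.obj.obj (op (f i)) := fun i => match i with
    | ⟨false⟩ => t
    | ⟨true⟩ => t₁ + S.f.hom.app (op W) b
  have key : S.X₂.obj.map (homOfLE (inf_le_left : V ⊓ W ≤ V)).op t =
      S.X₂.obj.map (homOfLE (inf_le_right : V ⊓ W ≤ W)).op (t₁ + S.f.hom.app (op W) b) := by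
    rw [map_add, ← NatTrans.naturality_apply S.f.hom, hb, ha]
    exact (add_sub_cancel _ _).symm
  have key' : S.X₂.obj.map (homOfLE (inf_le_left : W ⊓ V ≤ W)).op (t₁ + S.f.hom.app (op W) b) =
      S.X₂.obj.map (homOfLE (inf_le_right : W ⊓ V ≤ V)).op t := by
    have h : W ⊓ V ≤ V ⊓ W := (inf_comm W V).le
    have e := congrArg (S.X₂.obj.map (homOfLE h).op) key
    rw [res_res, res_res] at e
    exact e.symm
  obtain ⟨t₅, ht₅, -⟩ := TopCat.Sheaf.existsUnique_gluing (X := X.carrier) (S.X₂ : TopCat.Sheaf AddCommGrpCat.{u + 1} X.carrier) f sf (by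
    rintro ⟨_ | _⟩ ⟨_ | _⟩
    · rfl
    · exact key
    · exact key'
    · rfl)
  have hle : iSup f ≤ U := iSup_le fun i => by rcases i with ⟨_ | _⟩ <;> assumption
  have hp : S.g.hom.app (op (iSup f)) t₅ = S.X₃.obj.map (homOfLE hle).op s := by
    refine TopCat.Sheaf.eq_of_locally_eq (X := X.carrier) (S.X₃ : TopCat.Sheaf AddCommGrpCat.{u + 1} X.carrier) f _ _ fun i => ?_
    show S.X₃.obj.map _ (S.g.hom.app _ t₅) = S.X₃.obj.map _ (S.X₃.obj.map _ s)
    rw [← NatTrans.naturality_apply S.g.hom, ← Functor.map_comp_apply, ← op_comp]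
    refine (congrArg (S.g.hom.app (op (f i))) (ht₅ i)).trans ?_
    rcases i with ⟨_ | _⟩
    · exact ht.trans (res_eq _ _ _)
    · show S.g.hom.app (op W) (t₁ + S.f.hom.app (op W) b) = _
      rw [map_add, show S.g.hom.app (op W) (S.f.hom.app (op W) b) = 0 from
        ConcreteCategory.congr_hom (congrArg (fun k => k.hom.app (op W)) S.zero) b, add_zero, ht₁]
      exact res_eq _ _ _
  obtain ⟨h, -⟩ := hm ⟨⟨iSup f, t₅⟩, hle, hp⟩ ⟨le_iSup f ⟨false⟩, ht₅ ⟨false⟩⟩
  exact h (Opens.mem_iSup.2 ⟨⟨true⟩, hxW⟩)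

theorem flasque_X₃ {S : ShortComplex (EtZar.Ab X)} (hS : S.ShortExact) (h₁ : Flasque S.X₁) (h₂ : Flasque S.X₂) :
    Flasque S.X₃ := fun U V h y => by
  obtain ⟨t, rfl⟩ := surjective_app hS h₁ V y
  obtain ⟨t', rfl⟩ := h₂ U V h t
  exact ⟨S.g.hom.app (op U) t', (NatTrans.naturality_apply S.g.hom (homOfLE h).op t').symm⟩

/-- the free presheaf on an open -/
noncomputable abbrev freePre (U : X.Opens) : X.Opensᵒᵖ ⥤ AddCommGrpCat.{u + 1} :=
  (yoneda.obj U ⋙ uliftFunctor.{u + 1, u}) ⋙ AddCommGrpCat.free.{u + 1}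

theorem free_map_injective {α β : Type (u + 1)} (g : α → β) (hg : Function.Injective g) :
    Function.Injective (FreeAbelianGroup.map g) := by
  rcases isEmpty_or_nonempty α with hα | hα
  · exact fun a b _ => (FreeAbelianGroup.equivFinsupp α).injective (Subsingleton.elim _ _)
  · obtain ⟨r, hr⟩ := hg.hasLeftInverse
    refine Function.LeftInverse.injective (g := FreeAbelianGroup.map r) fun a => ?_
    rw [← FreeAbelianGroup.map_comp_apply, show r ∘ g = id from funext hr, FreeAbelianGroup.map_id_apply]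

theorem flasque_of_injective (I : EtZar.Ab X) [Injective I] : Flasque I := fun U V h s => by
  haveI : Injective I.obj := Injective.injective_of_adjoint (sheafificationAdjunction _ AddCommGrpCat.{u + 1}) I
  let q : freePre V ⟶ freePre U :=
    Functor.whiskerRight (Functor.whiskerRight (yoneda.map (homOfLE h)) uliftFunctor.{u + 1, u}) AddCommGrpCat.free.{u + 1}
  haveI : ∀ T, Mono (q.app T) := fun T => (AddCommGrpCat.mono_iff_injective _).2
    (free_map_injective _ fun a b _ => ULift.ext _ _ (Subsingleton.elim (α := T.unop ⟶ V) _ _))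
  haveI : Mono q := NatTrans.mono_of_mono_app _
  let α : freePre V ⟶ I.obj :=
    { app := fun T => AddCommGrpCat.ofHom (FreeAbelianGroup.lift fun g : ULift.{u + 1, u} (T.unop ⟶ V) => I.obj.map g.down.op s)
      naturality := fun T W f => by
        refine AddCommGrpCat.hom_ext (FreeAbelianGroup.lift_ext _ _ fun g => ?_)
        change FreeAbelianGroup.lift (fun g : ULift.{u + 1, u} (W.unop ⟶ V) => I.obj.map g.down.op s)
          (FreeAbelianGroup.map _ (FreeAbelianGroup.of g)) =
          I.obj.map f (FreeAbelianGroup.lift (fun g : ULift.{u + 1, u} (T.unop ⟶ V) => I.obj.map g.down.op s) (FreeAbelianGroup.of g))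
        rw [FreeAbelianGroup.map_of_apply, FreeAbelianGroup.lift_apply_of, FreeAbelianGroup.lift_apply_of]
        exact Eq.trans (res_eq _ _ _) ((congrArg (fun k => I.obj.map k s) (rfl : (f.unop ≫ g.down).op = g.down.op ≫ f)).trans
          (Functor.map_comp_apply _ _ _ _)) }
  let β := Injective.factorThru α q
  refine ⟨β.app (op U) (FreeAbelianGroup.of (ULift.up (𝟙 U) : ULift.{u + 1, u} (U ⟶ U))), ?_⟩
  refine (NatTrans.naturality_apply β (homOfLE h).op _).symm.trans ?_
  have e := congr($(Injective.comp_factorThru α q).app (op V) (FreeAbelianGroup.of (ULift.up (𝟙 V) : ULift.{u + 1, u} (V ⟶ V))))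
  refine Eq.trans (congrArg (β.app (op V)) ?_) (e.trans ?_)
  · show FreeAbelianGroup.map _ (FreeAbelianGroup.of _) = FreeAbelianGroup.map _ (FreeAbelianGroup.of _)
    rw [FreeAbelianGroup.map_of_apply, FreeAbelianGroup.map_of_apply]
    exact congrArg FreeAbelianGroup.of (ULift.ext _ _ (Subsingleton.elim (α := V ⟶ U) _ _))
  · exact (FreeAbelianGroup.lift_apply_of _ _).trans (congr($(I.obj.map_id (op V)) s))

theorem subsingleton_H_of_flasque (n : ℕ) : ∀ (F : EtZar.Ab X), Flasque F → Subsingleton (EtZar.H F (n + 1)) := by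
  induction n with
  | zero =>
    intro F hF
    obtain ⟨T, hT, hI, rfl⟩ := Groth.L28.Supp.exists_presentation F
    refine subsingleton_of_forall_eq 0 fun x => ?_
    obtain ⟨y, rfl⟩ := Ext.covariant_sequence_exact₁ _ hT x (Ext.eq_zero_of_injective _) (zero_add 1)
    let hterm : IsTerminal (⊤ : X.Opens) := IsTerminal.ofUniqueHom (fun _ => homOfLE le_top) (fun _ _ => Subsingleton.elim _ _)
    obtain ⟨t, ht⟩ := surjective_app hT hF ⊤ (Sheaf.H.equiv₀ T.X₃ hterm y)
    have e : y = Sheaf.H.map T.g 0 ((Sheaf.H.equiv₀ T.X₂ hterm).symm t) := by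
      rw [Sheaf.H.equiv₀_symm_naturality, ht, AddEquiv.symm_apply_apply]
    rw [e, Sheaf.H.map_apply]
    simp
  | succ n ih =>
    intro F hF
    obtain ⟨T, hT, hI, rfl⟩ := Groth.L28.Supp.exists_presentation F
    refine subsingleton_of_forall_eq 0 fun x => ?_
    obtain ⟨y, rfl⟩ := Ext.covariant_sequence_exact₁ _ hT x (Ext.eq_zero_of_injective _) rfl
    haveI := ih T.X₃ (flasque_X₃ hT hF (flasque_of_injective T.X₂))
    exact (congrArg (fun z => Ext.comp z hT.extClass rfl) (Subsingleton.elim (α := EtZar.H T.X₃ (n + 1)) y 0)).trans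
      (Ext.zero_comp _ _ _ _ _)

variable (X)

theorem preservesFiniteLimits_lift : PreservesFiniteLimits (lift X) := by
  haveI : PreservesFiniteLimits (lift X ⋙ sheafToPresheaf (Opens.grothendieckTopology X) AddCommGrpCat.{u + 1}) :=
    inferInstanceAs (PreservesFiniteLimits (sheafToPresheaf (Opens.grothendieckTopology X) AddCommGrpCat.{u} ⋙
      (Functor.whiskeringRight _ _ _).obj AddCommGrpCat.uliftFunctor.{u + 1}))
  exact preservesFiniteLimits_of_reflects_of_preserves (lift X) (sheafToPresheaf _ _)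

instance : (lift X).Additive where

theorem preservesFiniteColimits_lift : PreservesFiniteColimits (lift X) := by
  haveI := preservesFiniteLimits_lift X
  haveI : (lift X).PreservesEpimorphisms := ⟨fun {A B} g hg => by
    refine epi_of_locally_surjective _ fun U s x hx => ?_
    have := (TopCat.Sheaf.isLocallySurjective_iff_epi (X := X.carrier) g).mpr hg
    obtain ⟨V, hVU, ⟨t, ht⟩, hxV⟩ := (TopCat.Presheaf.isLocallySurjective_iff g.hom).mp this U s.down x hx
    exact ⟨V, hVU, hxV, ULift.up t, ULift.ext _ _ ht⟩⟩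
  have h : ∀ S : ShortComplex (SmallAb X), S.ShortExact → (S.map (lift X)).ShortExact := fun S hS =>
    haveI := hS.mono_f
    haveI := hS.epi_g
    { exact := hS.exact.map_of_mono_of_preservesKernel (lift X) inferInstance inferInstance
      mono_f := inferInstanceAs (Mono ((lift X).map S.f))
      epi_g := inferInstanceAs (Epi ((lift X).map S.g)) }
  have h' : PreservesFiniteLimits (lift X) ∧ PreservesFiniteColimits (lift X) := (((lift X).exact_tfae).out 0 3).1 h
  exact h'.2

/-- the constant sheaf lifts -/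
theorem nonempty_lift_constant : Nonempty ((lift X).obj ((constantSheaf (Opens.grothendieckTopology X) AddCommGrpCat.{u}).obj
    (AddCommGrpCat.of (ULift.{u} ℤ))) ≅
      (constantSheaf (Opens.grothendieckTopology X) AddCommGrpCat.{u + 1}).obj (AddCommGrpCat.of (ULift.{u + 1} ℤ))) := by
  haveI := wEqualsLocallyBijective (X := X)
  let J := Opens.grothendieckTopology X
  let M : AddCommGrpCat.{u} := AddCommGrpCat.of (ULift.{u} ℤ)
  let M' : AddCommGrpCat.{u + 1} := AddCommGrpCat.of (ULift.{u + 1} ℤ)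
  let t := toSheafify J ((Functor.const X.Opensᵒᵖ).obj M)
  let K := (constantSheaf J AddCommGrpCat.{u}).obj M
  let η : (Functor.const X.Opensᵒᵖ).obj M' ⟶ ((lift X).obj K).obj :=
    { app := fun T => AddCommGrpCat.ofHom
        { toFun := fun n => ULift.up (t.app T (ULift.up n.down))
          map_zero' := ULift.ext _ _ (map_zero (t.app T).hom)
          map_add' := fun a b => ULift.ext _ _ (map_add (t.app T).hom (ULift.up a.down) (ULift.up b.down)) }
      naturality := fun T W f => by
        ext n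
        exact ULift.ext _ _ (NatTrans.naturality_apply t f (ULift.up n.down)) }
  haveI : Presheaf.IsLocallyInjective J η := ⟨fun {T} a b hab => by
    refine J.superset_covering ?_ (Presheaf.equalizerSieve_mem J t (X := T) (ULift.up a.down) (ULift.up b.down) (congrArg ULift.down hab))
    intro W i hi
    have h : (ULift.up a.down : ULift.{u} ℤ) = ULift.up b.down := hi
    show a = b
    exact ULift.ext _ _ (congrArg (fun z : ULift.{u} ℤ => z.down) h)⟩
  haveI : Presheaf.IsLocallySurjective J η := ⟨fun {T} s => by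
    refine J.superset_covering ?_ (Presheaf.imageSieve_mem J t s.down)
    rintro W i ⟨n, hn⟩
    exact ⟨ULift.up n.down, ULift.ext _ _ hn⟩⟩
  let φ : (constantSheaf J AddCommGrpCat.{u + 1}).obj M' ⟶ (lift X).obj K :=
    ⟨sheafifyLift J η ((lift X).obj K).property⟩
  have hφ : toSheafify J ((Functor.const X.Opensᵒᵖ).obj M') ≫ φ.hom = η := toSheafify_sheafifyLift _ _ _
  haveI : Sheaf.IsLocallyInjective φ := Presheaf.isLocallyInjective_of_isLocallyInjective_of_isLocallySurjective_fac
    J (f₁ := toSheafify _ _) (f₂ := φ.hom) η hφ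
  haveI : Sheaf.IsLocallySurjective φ := Presheaf.isLocallySurjective_of_isLocallySurjective_fac
    J (f₁ := toSheafify _ _) (f₂ := φ.hom) hφ
  haveI : IsIso φ := (Sheaf.isLocallyBijective_iff_isIso φ).1 ⟨inferInstance, inferInstance⟩
  exact ⟨(asIso φ).symm⟩

/-- cohomology does not depend on the universe -/
theorem exists_H_lift (F : SmallAb X) (n : ℕ) :
    ∃ e : Sheaf.H F n ≃+ EtZar.H ((lift X).obj F) n,
      ∀ (β : F ⟶ F) x, e (Sheaf.H.map β n x) = Sheaf.H.map ((lift X).map β) n (e x) := by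
  haveI := preservesFiniteLimits_lift X
  haveI := preservesFiniteColimits_lift X
  obtain ⟨c⟩ := nonempty_lift_constant X
  let A := (constantSheaf (Opens.grothendieckTopology X) AddCommGrpCat.{u}).obj (AddCommGrpCat.of (ULift.{u} ℤ))
  have hb := bijective_mapExactFunctor.{u, u + 1} (lift X) A (fun I hI m => by
    haveI := subsingleton_H_of_flasque m ((lift X).obj I) (fun U V h y => by
      haveI := hI
      haveI : Mono (homOfLE h) := ⟨fun _ _ _ => Subsingleton.elim _ _⟩
      obtain ⟨t, ht⟩ := Groth.L10.SiteCoh.surjective_map_of_injective I (homOfLE h) y.down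
      exact ⟨ULift.up t, ULift.ext _ _ ht⟩)
    exact Function.Injective.subsingleton (β := EtZar.H ((lift X).obj I) (m + 1))
      (f := fun x => (Ext.mk₀ c.inv).comp x (zero_add (m + 1))) (fun a b hab => by
        have := congrArg (fun z => (Ext.mk₀ c.hom).comp z (zero_add (m + 1))) hab
        simpa [Ext.mk₀_comp_mk₀_assoc] using this)) n F
  refine ⟨(AddEquiv.ofBijective (AddMonoidHom.mk' _ (fun a b => Ext.mapExactFunctor_add (lift X) _ _ _ a b)) hb).trans
    { toFun := fun x => (Ext.mk₀ c.inv).comp x (zero_add n)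
      invFun := fun x => (Ext.mk₀ c.hom).comp x (zero_add n)
      left_inv := fun x => by
        show (Ext.mk₀ c.hom).comp ((Ext.mk₀ c.inv).comp x (zero_add n)) (zero_add n) = x
        simp only [Ext.mk₀_comp_mk₀_assoc, Iso.hom_inv_id]
        exact Ext.mk₀_id_comp x
      right_inv := fun x => by
        show (Ext.mk₀ c.inv).comp ((Ext.mk₀ c.hom).comp x (zero_add n)) (zero_add n) = x
        simp only [Ext.mk₀_comp_mk₀_assoc, Iso.inv_hom_id]
        exact Ext.mk₀_id_comp x
      map_add' := fun x y => Ext.comp_add _ _ _ _ }, fun β x => ?_⟩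
  have h : (Sheaf.H.map β n x).mapExactFunctor (lift X) =
      (x.mapExactFunctor (lift X) : Ext.{u + 1} _ _ n).comp (Ext.mk₀ ((lift X).map β)) (add_zero n) := by
    rw [Sheaf.H.map_apply, Ext.mapExactFunctor_comp, Ext.mapExactFunctor_mk₀]
  refine Eq.trans (congrArg (fun y => (Ext.mk₀ c.inv).comp y (zero_add n)) h) ?_
  exact ((Sheaf.H.map_apply _ _).trans (Ext.comp_assoc_of_third_deg_zero _ _ _ _)).symm

theorem nonempty_H_lift (F : SmallAb X) (n : ℕ) :
    Nonempty (Sheaf.H F n ≃+ EtZar.H ((lift X).obj F) n) :=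
  let ⟨e, _⟩ := exists_H_lift X F n; ⟨e⟩

end Groth.L28.UnivLift
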